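import Groth.Agent.BcQCalc.CompPullback
import Groth.Agent.EtLC12.TorsionColim

/-!
# Sheaves killed by a number with prime factors in `L`
-/

set_option autoImplicit false
set_option linter.unusedSectionVars false
set_option linter.style.haveILetI false
set_option backward.isDefEq.respectTransparency false
set_option backward.isDefEq.respectTransparency.types false

universe u

open CategoryTheory CategoryTheory.Limits AlgebraicGeometry Opposite Abelian

noncomputable section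

namespace Groth.Agent.CompDescent5

open EtFound BcQCalc

variable {X : Scheme.{u}}

/-- A sheaf killed by a number with prime factors in `L` is `L`-torsion. -/
theorem isLTorsion_of_killed {L : Set ℕ} {N : ℕ} (hN : EtAcyc.PrimesIn L N) {F : EtCoh.Ab X}
    (hF : N • 𝟙 F = 0) : EtAcyc.IsLTorsion L F :=
  fun U s x => ⟨U, 𝟙 U, N, ⟨x, rfl⟩, hN, (killedBy_iff_nsmul N F).2 hF U _⟩

/-- A subsheaf of an `L`-torsion sheaf is `L`-torsion. -/
theorem isLTorsion_of_mono {L : Set ℕ} {F G : EtCoh.Ab X} (a : F ⟶ G) [Mono a]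
    (hG : EtAcyc.IsLTorsion L G) : EtAcyc.IsLTorsion L F := by
  intro U s x
  obtain ⟨V, g, m, hv, hm, h0⟩ := hG U ((a.hom.app (op U)).hom s) x
  refine ⟨V, g, m, hv, hm, SiteBase.sheaf_app_injective a V ?_⟩
  refine (map_nsmul _ _ _).trans (Eq.trans ?_ (map_zero _).symm)
  exact (congrArg (m • ·) (NatTrans.naturality_apply a.hom g.op s)).trans h0

/-- An `L`-torsion sheaf with bounded torsion is killed by a number with prime factors in `L`. -/
theorem killed_lnum {L : Set ℕ} {F : EtCoh.Ab X} (hF : EtAcyc.IsLTorsion L F) {M : ℕ} (hM : 0 < M)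
    (h : M • 𝟙 F = 0) : lnum L M • 𝟙 F = 0 := by
  refine (killedBy_iff_nsmul _ F).1 fun U s => ?_
  refine EtLim8.sect_ext F _ _ fun x => ?_
  obtain ⟨V, g, m, ⟨v, hv⟩, hm, h0⟩ := hF U s x
  refine ⟨V, g, v, hv, ?_⟩
  have hgcd : EtAcyc.PrimesIn L (Nat.gcd M m) :=
    ⟨Nat.gcd_pos_of_pos_left _ hM, fun p hp hd => hm.2 p hp (hd.trans (Nat.gcd_dvd_right _ _))⟩
  have hd : addOrderOf ((F.obj.map g.op).hom s) ∣ lnum L M :=
    (Nat.dvd_gcd (addOrderOf_dvd_of_nsmul_eq_zero ((killedBy_iff_nsmul M F).2 h V _))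
      (addOrderOf_dvd_of_nsmul_eq_zero h0)).trans (dvd_lnum L hgcd (Nat.gcd_le_left _ hM))
  refine (map_nsmul _ _ _).trans (Eq.trans ?_ (map_zero _).symm)
  exact addOrderOf_dvd_iff_nsmul_eq_zero.1 hd

theorem nsmul_id_kernel (N : ℕ) (I : EtCoh.Ab X) : N • 𝟙 (kernel (N • 𝟙 I)) = 0 := by
  rw [← cancel_mono (kernel.ι (N • 𝟙 I)), zero_comp, Preadditive.nsmul_comp, Category.id_comp]
  have h3 := kernel.condition (N • 𝟙 I)
  rwa [Preadditive.comp_nsmul, Category.comp_id] at h3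

theorem nsmul_id_map {Y : Scheme.{u}} (Φ : EtCoh.Ab X ⥤ EtCoh.Ab Y) [Φ.Additive] (N : ℕ) {F : EtCoh.Ab X}
    (hF : N • 𝟙 F = 0) : N • 𝟙 (Φ.obj F) = 0 := by
  rw [← Φ.map_id, ← Φ.map_nsmul, hF, Φ.map_zero]

theorem nsmul_id_of_epi (N : ℕ) {F G : EtCoh.Ab X} (a : F ⟶ G) [Epi a] (hF : N • 𝟙 F = 0) : N • 𝟙 G = 0 := by
  rw [← cancel_epi a, comp_zero, Preadditive.comp_nsmul, Category.comp_id]
  calc N • a = (N • 𝟙 F) ≫ a := by rw [Preadditive.nsmul_comp, Category.id_comp]
    _ = 0 := by rw [hF, zero_comp]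

variable (I : EtCoh.Ab X) [Injective I] {N : ℕ} (hN : 0 < N)

include hN

theorem epi_nsmul : Epi (N • 𝟙 I) := by
  haveI : Sheaf.IsLocallySurjective (N • 𝟙 I) := ⟨fun {U} s => by
    obtain ⟨t, ht⟩ := TorsionInd.sections_divisible I hN U s
    refine (mem_topology_iff _).2 fun x => ⟨U, 𝟙 U, x, ⟨t, ?_⟩, rfl⟩
    rw [op_id, CategoryTheory.Functor.map_id]
    exact (nsmul_hom_app (𝟙 I) N U t).trans ht⟩
  exact (Sheaf.isLocallySurjective_iff_epi' AddCommGrpCat.{u + 1} _).1 inferInstance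

theorem nTorsionSES_shortExact :
    (ShortComplex.mk (kernel.ι (N • 𝟙 I)) (N • 𝟙 I) (kernel.condition _)).ShortExact :=
  haveI := epi_nsmul I hN
  { exact := ShortComplex.exact_of_f_is_kernel _ (kernelIsKernel _) }

/-- The kernel of multiplication on an injective sheaf has no higher direct images. -/
theorem isZero_Rpush_nTorsion {S : Scheme.{u}} (p : X ⟶ S) (q : ℕ) :
    IsZero ((EtCoh.Rpush p (q + 1)).obj (kernel (N • 𝟙 I))) := by
  haveI : (EtCoh.push p).IsRightAdjoint := (EtCoh.pullPushAdj p).isRightAdjoint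
  let T := SESResLib.derivedLES (EtCoh.push p)
  have hS := nTorsionSES_shortExact I hN
  let Sc := ShortComplex.mk (kernel.ι (N • 𝟙 I)) (N • 𝟙 I) (kernel.condition _)
  refine (T.exact₁ Sc hS q (q + 1) rfl).isZero_X₂ ?_
    (((EtCoh.push p).isZero_rightDerived_obj_injective_succ q I).eq_of_tgt _ _)
  cases q with
  | zero =>
    haveI : Epi ((EtCoh.push p).map Sc.g) := by
      refine (Sheaf.isLocallySurjective_iff_epi' AddCommGrpCat.{u + 1} ((EtCoh.push p).map Sc.g)).1 ⟨fun {V} s => ?_⟩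
      obtain ⟨t, ht⟩ := TorsionInd.sections_divisible I hN ((EtCoh.bc p).obj V) s
      refine (mem_topology_iff _).2 fun v => ⟨V, 𝟙 V, v, ⟨t, ?_⟩, rfl⟩
      rw [op_id, CategoryTheory.Functor.map_id]
      exact (nsmul_hom_app (𝟙 I) N ((EtCoh.bc p).obj V) t).trans ht
    haveI : Epi (((EtCoh.push p).rightDerived 0).map Sc.g) :=
      epi_of_natIso (EtCoh.push p).rightDerivedZeroIsoSelf Sc.g
    exact (cancel_epi (((EtCoh.push p).rightDerived 0).map Sc.g)).1
      ((T.comp_δ Sc hS 0 1 rfl).trans comp_zero.symm)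
  | succ q =>
    exact ((EtCoh.push p).isZero_rightDerived_obj_injective_succ q I).eq_of_src _ _

omit hN

end Groth.Agent.CompDescent5
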