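import Groth.Agent.BcQCalc.CompPullback

/-!
# Vanishing of cohomology passes to direct images
-/

set_option autoImplicit false
set_option linter.unusedSectionVars false
set_option linter.style.haveILetI false
set_option backward.isDefEq.respectTransparency false
set_option backward.isDefEq.respectTransparency.types false

universe u

open CategoryTheory CategoryTheory.Limits AlgebraicGeometry Opposite Abelian

noncomputable section

namespace Groth.Agent.CompDescent5

open EtFound BcQCalc

variable {A B : Scheme.{u}} (f : A ⟶ B)

/-- `H^{q+1}(B, f_* M) = 0` if `H^{q+1}(A, M) = 0` and `R^j f_* M = 0` for `1 ≤ j ≤ q`. -/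
theorem subsingleton_H_push :
    ∀ (q : ℕ) (M : EtCoh.Ab A), (∀ j, j < q → IsZero ((EtCoh.Rpush f (j + 1)).obj M)) →
      Subsingleton (EtCoh.H A M (q + 1)) → Subsingleton (EtCoh.H B ((EtCoh.push f).obj M) (q + 1)) := by
  haveI := EtFound.pull_preservesFiniteLimits f
  haveI : (EtCoh.pull f).PreservesMonomorphisms := inferInstance
  haveI : (EtCoh.push f).IsRightAdjoint := (EtCoh.pullPushAdj f).isRightAdjoint
  intro q
  induction q with
  | zero =>
    intro M _ hM
    have hS := embSES_shortExact M
    haveI : Injective (embSES M).X₂ := inferInstanceAs (Injective (Injective.under M))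
    haveI : Injective ((embSES M).map (EtCoh.push f)).X₂ :=
      Injective.injective_of_adjoint (EtCoh.pullPushAdj f) (embSES M).X₂
    haveI := hS.mono_f
    let T := (embSES M).map (EtCoh.push f)
    haveI : Mono T.f := inferInstanceAs (Mono ((EtCoh.push f).map (embSES M).f))
    have hT : T.Exact := ShortComplex.exact_of_f_is_kernel _
      ((KernelFork.isLimitMapConeEquiv _ _).1 (isLimitOfPreserves (EtCoh.push f) hS.fIsKernel))
    let S' := ShortComplex.mk T.f (cokernel.π T.f) (cokernel.condition _)
    haveI : Injective S'.X₂ := inferInstanceAs (Injective T.X₂)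
    have hS' : S'.ShortExact := { exact := ShortComplex.exact_of_g_is_cokernel _ (cokernelIsCokernel _) }
    let m : cokernel T.f ⟶ T.X₃ := cokernel.desc T.f T.g T.zero
    haveI : Mono m := hT.mono_cokernelDesc
    refine (subsingleton_H_one_iff hS').2 fun y => ?_
    obtain ⟨x, hx⟩ := ((surjective_push_top_iff f (embSES M).g).2 ((subsingleton_H_one_iff hS).1 hM))
      ((m.hom.app (op (EtCoh.top B))).hom y)
    refine ⟨x, SiteBase.sheaf_app_injective m (EtCoh.top B) ?_⟩
    refine Eq.trans ?_ hx
    exact congrArg (fun r : T.X₂ ⟶ T.X₃ => (r.hom.app (op (EtCoh.top B))).hom x) (cokernel.π_desc T.f T.g T.zero)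
  | succ q ih =>
    intro M h hM
    have hS := embSES_shortExact M
    haveI : Injective (embSES M).X₂ := inferInstanceAs (Injective (Injective.under M))
    have hS' := push_shortExact f hS (h 0 (Nat.succ_pos _))
    haveI : Injective ((embSES M).map (EtCoh.push f)).X₂ :=
      Injective.injective_of_adjoint (EtCoh.pullPushAdj f) (embSES M).X₂
    let T := SESResLib.derivedLES (EtCoh.push f)
    refine (subsingleton_H_succ_iff hS' q).2 (ih _ (fun j hj => ?_) ((subsingleton_H_succ_iff hS q).1 hM))
    exact (T.exact₃ (embSES M) hS (j + 1) (j + 2) rfl).isZero_X₂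
      (((EtCoh.push f).isZero_rightDerived_obj_injective_succ j (embSES M).X₂).eq_of_src _ _)
      ((h (j + 1) (by omega)).eq_of_tgt _ _)

end Groth.Agent.CompDescent5
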