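import Groth.Agent.CompDescent5.Torsion
import Groth.Agent.CompDescent5.PushVanish
import Groth.Agent.S8536
import Groth.Agent.S14622
import Groth.Agent.EtLim8.Adj
import Groth.Agent.S8537

/-!
# Descent of the comparison condition along a surjection
-/

set_option autoImplicit false
set_option linter.unusedSectionVars false
set_option linter.style.haveILetI false
set_option backward.isDefEq.respectTransparency false
set_option backward.isDefEq.respectTransparency.types false

universe u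

open CategoryTheory CategoryTheory.Limits AlgebraicGeometry Opposite Abelian

noncomputable section

namespace Groth.Agent.CompDescent5

open EtFound BcQCalc

attribute [local instance] EtFound.pull_preservesFiniteLimits

variable {X Y Xb Yb : Scheme.{u}} (h : Y ⟶ X) (p : Xb ⟶ X) (hb : Yb ⟶ Xb) (pY : Yb ⟶ Y)
  (w : hb ≫ p = pY ≫ h)

theorem bij_congr {A B : Type*} {f g : A → B} (hf : Function.Bijective f) (e : ∀ x, g x = f x) :
    Function.Bijective g := (funext e : g = f).symm ▸ hf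

theorem bijective_hom_app {P : Scheme.{u}} {M N : EtCoh.Ab P} (a : M ⟶ N) [IsIso a] (V : P.Etaleᵒᵖ) :
    Function.Bijective (a.hom.app V).hom :=
  (ConcreteCategory.isIso_iff_bijective (a.hom.app V)).1
    (inferInstanceAs (IsIso ((sheafToPresheaf _ _ ⋙ (evaluation _ _).obj V).map a)))

theorem bijective_res_top {A B : Scheme.{u}} (f : A ⟶ B) (G : EtCoh.Ab A) :
    Function.Bijective (EtLim8.res f (𝟙 ((EtCoh.push f).obj G)) (V := EtCoh.top B)
      (W := EtCoh.top A) f (EtLim8.top_w f)) := by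
  have hl : (EtCore.bcTopIso f).inv = EtLim8.liftBc f (V := EtCoh.top B) (W := EtCoh.top A) f (EtLim8.top_w f) :=
    (EtCore.bcTopIsTerminal f).hom_ext _ _
  have := (ConcreteCategory.isIso_iff_bijective (G.obj.map (EtCore.bcTopIso f).inv.op)).1 inferInstance
  rw [hl] at this
  exact this

theorem isIso_baseChange0 (F : EtCoh.Ab Xb) (hiso : IsIso (EtBC.bcQ p h pY hb w 0 F)) :
    IsIso (EtCoh.baseChange0 p h pY hb w F) := by
  haveI : (EtCoh.push p).IsRightAdjoint := (EtCoh.pullPushAdj p).isRightAdjoint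
  haveI : (EtCoh.push pY).IsRightAdjoint := (EtCoh.pullPushAdj pY).isRightAdjoint
  have e := EtBC.bcQ_zero_compat p h pY hb w F
  haveI : IsIso (EtCoh.baseChange0 p h pY hb w F ≫
      (EtCoh.push pY).toRightDerivedZero.app ((EtCoh.pull hb).obj F)) := by
    rw [← e]; infer_instance
  exact IsIso.of_isIso_comp_right _ ((EtCoh.push pY).toRightDerivedZero.app ((EtCoh.pull hb).obj F))

include w

/-- In degree `0` the comparison for `hb` gives the comparison for `h` on direct images. -/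
theorem bijective_Hpull_push_zero (F : EtCoh.Ab Xb) [IsIso (EtCoh.baseChange0 p h pY hb w F)]
    (h0 : Function.Bijective (EtCore.Hpull hb F 0)) :
    Function.Bijective (EtCore.Hpull h ((EtCoh.push p).obj F) 0) := by
  let γ := EtCoh.baseChange0 p h pY hb w F
  let γ' := (EtCoh.pullPushAdj h).homEquiv _ _ γ
  let d := (EtCore.bcTopIso p).inv
  have hd : Function.Bijective (F.obj.map d.op).hom :=
    (ConcreteCategory.isIso_iff_bijective _).1 inferInstance
  have e4 : Function.Bijective (EtLim8.res hb ((EtCoh.pullPushAdj hb).unit.app F) (V := EtCoh.top Xb)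
      (W := EtCoh.top Yb) hb (EtLim8.top_w hb)) := by
    refine bij_congr (((Sheaf.H.equiv₀ _ (EtCore.topIsTerminal Yb)).bijective.comp h0).comp
      (Sheaf.H.equiv₀ F (EtCore.topIsTerminal Xb)).symm.bijective) fun s => ?_
    obtain ⟨ξ, rfl⟩ := (Sheaf.H.equiv₀ F (EtCore.topIsTerminal Xb)).surjective s
    simp only [Function.comp_apply, AddEquiv.symm_apply_apply]
    rw [← (EtCoh.pullPushAdj hb).homEquiv_id F]
    refine (EtLim8.equiv₀_HpullThen hb F (𝟙 ((EtCoh.pull hb).obj F)) ξ).symm.trans ?_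
    rw [EtLim8.HpullThen_apply, Ext.comp_mk₀_id]
  have hsq : ∀ s, EtLim8.res pY (𝟙 ((EtCoh.push pY).obj ((EtCoh.pull hb).obj F))) (V := EtCoh.top Y)
      (W := EtCoh.top Yb) pY (EtLim8.top_w pY) (EtLim8.res h γ' (V := EtCoh.top X) (W := EtCoh.top Y) h (EtLim8.top_w h) s) =
        EtLim8.res hb ((EtCoh.pullPushAdj hb).unit.app F) (V := EtCoh.top Xb) (W := EtCoh.top Yb) hb
          (EtLim8.top_w hb) ((F.obj.map d.op).hom s) := fun s => S8537.res_square h p hb pY w F γ' rfl d s
  have e3 : Function.Bijective (EtLim8.res h γ' (V := EtCoh.top X) (W := EtCoh.top Y) h (EtLim8.top_w h)) :=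
    (Function.Bijective.of_comp_iff' (bijective_res_top pY _) _).1 (bij_congr (e4.comp hd) hsq)
  have e5 : ∀ ξ, (γ.hom.app (op (EtCoh.top Y))).hom
      (Sheaf.H.equiv₀ ((EtCoh.pull h).obj ((EtCoh.push p).obj F)) (EtCore.topIsTerminal Y)
        (EtCore.Hpull h ((EtCoh.push p).obj F) 0 ξ)) =
      EtLim8.res h γ' (V := EtCoh.top X) (W := EtCoh.top Y) h (EtLim8.top_w h)
        (Sheaf.H.equiv₀ ((EtCoh.push p).obj F) (EtCore.topIsTerminal X) ξ) := fun ξ => by
    refine Eq.trans ?_ (EtLim8.equiv₀_HpullThen h _ γ ξ)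
    rw [EtLim8.HpullThen_apply]
    exact Sheaf.H.equiv₀_naturality (EtCore.topIsTerminal Y) γ _
  refine (Function.Bijective.of_comp_iff'
    ((bijective_hom_app γ (op (EtCoh.top Y))).comp (Sheaf.H.equiv₀ _ (EtCore.topIsTerminal Y)).bijective) _).1 ?_
  exact bij_congr (e3.comp (Sheaf.H.equiv₀ _ (EtCore.topIsTerminal X)).bijective) e5

omit w

variable {L : Set ℕ} {n : ℕ}

include w

/-- The direct image of the `N`-torsion of an injective sheaf has no cohomology after pullback. -/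
theorem subsingleton_pull_push (hhb : EtAcyc.CompN hb L n) (hn : 1 ≤ n) {N : ℕ} (hN : EtAcyc.PrimesIn L N)
    (I : EtCoh.Ab Xb) [Injective I]
    (hbc : ∀ i, i ≤ n - 1 → IsIso (EtBC.bcQ p h pY hb w i (kernel (N • 𝟙 I)))) (q : ℕ) (hq : q + 1 ≤ n) :
    Subsingleton (EtCoh.H Y ((EtCoh.pull h).obj ((EtCoh.push p).obj (kernel (N • 𝟙 I)))) (q + 1)) := by
  let T := kernel (N • 𝟙 I)
  have hT := isLTorsion_of_killed hN (nsmul_id_kernel N I)
  have hYb : Subsingleton (EtCoh.H Yb ((EtCoh.pull hb).obj T) (q + 1)) :=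
    haveI := TorsionInd.subsingleton_H_nTorsion I hN.1 q
    ((hhb T hT).1 (q + 1) hq).2.subsingleton
  have hR : ∀ j, j < q → IsZero ((EtCoh.Rpush pY (j + 1)).obj ((EtCoh.pull hb).obj T)) := fun j hj => by
    haveI := hbc (j + 1) (by omega)
    exact ((EtCoh.pull h).map_isZero (isZero_Rpush_nTorsion I hN.1 p j)).of_iso
      (asIso (EtBC.bcQ p h pY hb w (j + 1) T)).symm
  haveI := subsingleton_H_push pY q _ hR hYb
  haveI := isIso_baseChange0 h p hb pY w T (hbc 0 (Nat.zero_le _))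
  let γ := EtCoh.baseChange0 p h pY hb w T
  refine subsingleton_of_forall_eq 0 fun x => ?_
  have hx : x = (x.comp (Ext.mk₀ γ) (add_zero (q + 1))).comp (Ext.mk₀ (inv γ)) (add_zero (q + 1)) := by
    rw [Ext.comp_assoc_of_third_deg_zero, Ext.mk₀_comp_mk₀, IsIso.hom_inv_id, Ext.comp_mk₀_id]
  rw [hx, Subsingleton.elim (x.comp (Ext.mk₀ γ) (add_zero (q + 1))) 0, Ext.zero_comp]

/-- The comparison for sheaves killed by a number with prime factors in `L`. -/
theorem bijective_Hpull_killed [Surjective p] (hn : 1 ≤ n) (hhb : EtAcyc.CompN hb L n)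
    (hbc : ∀ F : EtCoh.Ab Xb, EtAcyc.IsLTorsion L F → ∀ i, i ≤ n - 1 → IsIso (EtBC.bcQ p h pY hb w i F))
    {N : ℕ} (hN : EtAcyc.PrimesIn L N) :
    ∀ q : ℕ, ∀ F : EtCoh.Ab X, N • 𝟙 F = 0 →
      (q ≤ n → Function.Bijective (EtCore.Hpull h F q)) ∧
      (q ≤ n + 1 → Function.Injective (EtCore.Hpull h F q)) := by
  intro q
  induction q with
  | zero =>
    have hinj0 : ∀ F : EtCoh.Ab X, N • 𝟙 F = 0 → ∃ (G : EtCoh.Ab X) (a : F ⟶ G), Mono a ∧ N • 𝟙 G = 0 ∧
        Function.Bijective (EtCore.Hpull h G 0) := fun F hF => by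
      let F' := (EtCoh.pull p).obj F
      let I := Injective.under F'
      let b : F' ⟶ kernel (N • 𝟙 I) := kernel.lift _ (Injective.ι F') (by
        rw [Preadditive.comp_nsmul, Category.comp_id, ← Category.id_comp (Injective.ι F'),
          ← Preadditive.nsmul_comp, nsmul_id_map (EtCoh.pull p) N hF, zero_comp])
      haveI : Mono b := mono_of_mono_fac (kernel.lift_ι (N • 𝟙 I) (Injective.ι F') _)
      haveI := S14622.result p F
      haveI : (EtCoh.push p).IsRightAdjoint := (EtCoh.pullPushAdj p).isRightAdjoint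
      have hT := isLTorsion_of_killed hN (nsmul_id_kernel N I)
      haveI := isIso_baseChange0 h p hb pY w _ (hbc _ hT 0 (Nat.zero_le _))
      exact ⟨(EtCoh.push p).obj (kernel (N • 𝟙 I)), (EtCoh.pullPushAdj p).unit.app F ≫ (EtCoh.push p).map b,
        inferInstance, nsmul_id_map _ N (nsmul_id_kernel N I),
        bijective_Hpull_push_zero h p hb pY w _ ((hhb _ hT).1 0 (Nat.zero_le _))⟩
    have hmono : ∀ {P : Scheme.{u}} {A B : EtCoh.Ab P} (a : A ⟶ B) [Mono a] (x : EtCoh.H P A 0),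
        x.comp (Ext.mk₀ a) (add_zero 0) = 0 → x = 0 := fun a _ x hx => by
      obtain ⟨φ, rfl⟩ := (Ext.mk₀_bijective _ _).2 x
      rw [Ext.mk₀_comp_mk₀, Ext.mk₀_eq_zero_iff] at hx
      rw [zero_of_comp_mono a hx, Ext.mk₀_zero]
    have inj : ∀ F : EtCoh.Ab X, N • 𝟙 F = 0 → Function.Injective (EtCore.Hpull h F 0) := fun F hF => by
      obtain ⟨G, a, ha, -, hG⟩ := hinj0 F hF
      refine (injective_iff_map_eq_zero _).2 fun x hx => hmono a x (hG.1 ?_)
      rw [S8536.Hpull_comp_mk₀, hx, Ext.zero_comp, map_zero]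
    intro F hF
    refine ⟨fun _ => ⟨inj F hF, fun ξ => ?_⟩, fun _ => inj F hF⟩
    obtain ⟨G, a, ha, hG0, hG⟩ := hinj0 F hF
    let S : ShortComplex (EtCoh.Ab X) := ShortComplex.mk a (cokernel.π a) (cokernel.condition a)
    have hS : S.ShortExact :=
      { exact := ShortComplex.exact_of_g_is_cokernel _ (cokernelIsCokernel a)
        mono_f := ha
        epi_g := inferInstanceAs (Epi (cokernel.π a)) }
    obtain ⟨η, hη⟩ := hG.2 (ξ.comp (Ext.mk₀ ((EtCoh.pull h).map a)) (add_zero 0))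
    have hη0 : η.comp (Ext.mk₀ S.g) (add_zero 0) = 0 := by
      refine inj S.X₃ (nsmul_id_of_epi N (cokernel.π a) hG0) ?_
      rw [map_zero, S8536.Hpull_comp_mk₀]
      erw [hη]
      rw [Ext.comp_assoc_of_third_deg_zero, Ext.mk₀_comp_mk₀, ← Functor.map_comp]
      erw [cokernel.condition]
      rw [Functor.map_zero, Ext.mk₀_zero, Ext.comp_zero]
    obtain ⟨x, hx⟩ := Ext.covariant_sequence_exact₂ _ hS η hη0
    refine ⟨x, sub_eq_zero.1 (hmono ((EtCoh.pull h).map a) _ ?_)⟩
    rw [sub_eq_add_neg, Ext.add_comp, Ext.neg_comp, ← S8536.Hpull_comp_mk₀]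
    erw [hx, hη]
    exact add_neg_cancel _
  | succ q ih =>
    intro F hF
    let F' := (EtCoh.pull p).obj F
    let I := Injective.under F'
    let T := kernel (N • 𝟙 I)
    let b : F' ⟶ T := kernel.lift _ (Injective.ι F') (by
      rw [Preadditive.comp_nsmul, Category.comp_id, ← Category.id_comp (Injective.ι F'),
        ← Preadditive.nsmul_comp, nsmul_id_map (EtCoh.pull p) N hF, zero_comp])
    haveI : Mono b := mono_of_mono_fac (kernel.lift_ι (N • 𝟙 I) (Injective.ι F') _)
    haveI := S14622.result p F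
    haveI : (EtCoh.push p).IsRightAdjoint := (EtCoh.pullPushAdj p).isRightAdjoint
    let a := (EtCoh.pullPushAdj p).unit.app F ≫ (EtCoh.push p).map b
    let S : ShortComplex (EtCoh.Ab X) := ShortComplex.mk a (cokernel.π a) (cokernel.condition a)
    have hS : S.ShortExact :=
      { exact := ShortComplex.exact_of_g_is_cokernel _ (cokernelIsCokernel a)
        mono_f := inferInstanceAs (Mono a)
        epi_g := inferInstanceAs (Epi (cokernel.π a)) }
    have hG : N • 𝟙 S.X₂ = 0 := nsmul_id_map (EtCoh.push p) N (nsmul_id_kernel N I)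
    have hC : N • 𝟙 S.X₃ = 0 := nsmul_id_of_epi N (cokernel.π a) hG
    have hGX : Subsingleton (EtCoh.H X S.X₂ (q + 1)) :=
      subsingleton_H_push p q T (fun j _ => isZero_Rpush_nTorsion I hN.1 p j)
        (TorsionInd.subsingleton_H_nTorsion I hN.1 q)
    have hinj : q + 1 ≤ n + 1 → Function.Injective (EtCore.Hpull h F (q + 1)) := fun hq => by
      refine (injective_iff_map_eq_zero _).2 fun x hx => ?_
      obtain ⟨y, rfl⟩ := Ext.covariant_sequence_exact₁ _ hS x (hGX.allEq _ _) (rfl : q + 1 = q + 1)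
      have hy : (EtCore.Hpull h S.X₃ q y).comp (hS.map_of_exact (EtCoh.pull h)).extClass rfl = 0 :=
        (S8536.Hpull_comp_extClass h hS q y).symm.trans hx
      obtain ⟨z, hz⟩ := Ext.covariant_sequence_exact₃ _ (hS.map_of_exact (EtCoh.pull h)) _ _ hy
      obtain ⟨z', rfl⟩ := ((ih S.X₂ hG).1 (by omega)).2 z
      have hy' : z'.comp (Ext.mk₀ S.g) (add_zero q) = y :=
        ((ih S.X₃ hC).2 (by omega)) ((S8536.Hpull_comp_mk₀ h S.g q z').trans hz)
      rw [← hy', Ext.comp_assoc_of_second_deg_zero, hS.comp_extClass, Ext.comp_zero]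
    refine ⟨fun hq => ⟨hinj (by omega), fun x => ?_⟩, hinj⟩
    obtain ⟨η, hη⟩ := Ext.covariant_sequence_exact₁ _ (hS.map_of_exact (EtCoh.pull h)) x
      ((subsingleton_pull_push h p hb pY w hhb hn hN I
        (hbc _ (isLTorsion_of_killed hN (nsmul_id_kernel N I))) q hq).allEq _ _)
      (rfl : q + 1 = q + 1)
    obtain ⟨y, rfl⟩ := ((ih S.X₃ hC).1 (by omega)).2 η
    exact ⟨y.comp hS.extClass rfl, (S8536.Hpull_comp_extClass h hS q y).trans hη⟩

/-- The comparison for all `L`-torsion sheaves. -/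
theorem compN [CompactSpace X] [QuasiSeparatedSpace X] [CompactSpace Y] [QuasiSeparatedSpace Y]
    [Surjective p] (hn : 1 ≤ n) (hhb : EtAcyc.CompN hb L n)
    (hbc : ∀ F : EtCoh.Ab Xb, EtAcyc.IsLTorsion L F → ∀ i, i ≤ n - 1 → IsIso (EtBC.bcQ p h pY hb w i F)) :
    EtAcyc.CompN h L n := by
  intro F hF _
  have hF' : EtCoh.IsTorsion F := fun U s x => by
    obtain ⟨V, g, m, hv, hm, h0⟩ := hF U s x
    exact ⟨V, g, hv, isOfFinAddOrder_iff_nsmul_eq_zero.2 ⟨m, hm.1, h0⟩⟩
  haveI := EtLC12.TorsionColim.isIso_desc F hF'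
  haveI : IsIso ((colimit.isColimit (EtLC12.TorsionColim.D F)).desc (EtLC12.TorsionColim.cocone F)) :=
    inferInstanceAs (IsIso (colimit.desc (EtLC12.TorsionColim.D F) (EtLC12.TorsionColim.cocone F)))
  let hc : IsColimit (EtLC12.TorsionColim.cocone F) := (colimit.isColimit (EtLC12.TorsionColim.D F)).ofPointIso
  have hk : ∀ i, ∀ q, (q ≤ n → Function.Bijective (EtCore.Hpull h (EtLC12.TorsionColim.T F i) q)) ∧
      (q ≤ n + 1 → Function.Injective (EtCore.Hpull h (EtLC12.TorsionColim.T F i) q)) := fun i q =>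
    bijective_Hpull_killed h p hb pY w hn hhb hbc (primesIn_lnum L (EtLC12.TorsionColim.ex i)) q _
      (killed_lnum (isLTorsion_of_mono (kernel.ι _) hF) (Nat.factorial_pos _) (nsmul_id_kernel _ F))
  haveI := (EtCoh.pullPushAdj h).leftAdjoint_preservesColimits
  have hinj : ∀ q, q ≤ n + 1 → Function.Injective (EtCore.Hpull h F q) := fun q hq => by
    haveI := EtLC12.QcqsAcyclic.preservesColimitsOfShape_HF X q EtLC12.TorsionColim.Idx.{u}
    haveI := EtLC12.QcqsAcyclic.preservesColimitsOfShape_HF Y q EtLC12.TorsionColim.Idx.{u}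
    refine (injective_iff_map_eq_zero _).2 fun x hx => ?_
    obtain ⟨i, y, rfl⟩ := Concrete.isColimit_exists_rep _ (isColimitOfPreserves (EtCoh.HF X q) hc) x
    let K := (EtCoh.pull h).mapCocone (EtLC12.TorsionColim.cocone F)
    let z : EtCoh.H Y ((EtCoh.pull h).obj (EtLC12.TorsionColim.T F i)) q := EtCore.Hpull h _ q y
    have h0 : ((((EtCoh.HF Y q).mapCocone K)).ι.app i).hom z = (((EtCoh.HF Y q).mapCocone K).ι.app i).hom 0 := by
      refine ((S8536.Hpull_comp_mk₀ h (kernel.ι _) q y).symm.trans ?_).trans (map_zero _).symm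
      exact hx
    obtain ⟨k, a, b, hab⟩ := Concrete.isColimit_exists_of_rep_eq _
      (isColimitOfPreserves (EtCoh.HF Y q) (isColimitOfPreserves (EtCoh.pull h) hc)) z 0 h0
    have h1 : ((EtCoh.HF X q).map ((EtLC12.TorsionColim.D F).map a)).hom y = 0 := by
      refine (hk k q).2 hq ?_
      exact ((S8536.Hpull_comp_mk₀ h ((EtLC12.TorsionColim.D F).map a) q y).trans
        (hab.trans (map_zero _))).trans (map_zero _).symm
    refine (ConcreteCategory.congr_hom (((EtCoh.HF X q).mapCocone (EtLC12.TorsionColim.cocone F)).w a) y).symm.trans ?_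
    exact (congrArg (((EtCoh.HF X q).mapCocone (EtLC12.TorsionColim.cocone F)).ι.app k).hom h1).trans (map_zero _)
  refine ⟨fun q hq => ⟨hinj q (by omega), fun ξ => ?_⟩, hinj (n + 1) le_rfl⟩
  haveI := EtLC12.QcqsAcyclic.preservesColimitsOfShape_HF Y q EtLC12.TorsionColim.Idx.{u}
  obtain ⟨i, y, hy⟩ := Concrete.isColimit_exists_rep _
    (isColimitOfPreserves (EtCoh.HF Y q) (isColimitOfPreserves (EtCoh.pull h) hc)) ξ
  obtain ⟨x, rfl⟩ := ((hk i q).1 hq).2 y
  exact ⟨((EtCoh.HF X q).map (kernel.ι _)).hom x, (S8536.Hpull_comp_mk₀ h (kernel.ι _) q x).trans hy⟩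

end Groth.Agent.CompDescent5
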